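import Groth.Agent.H0Lib.Rigidity
import Groth.Agent.TorusHomZeroLib.Counit
import Groth.Agent.RedRankLib.CommRel
import Groth.Agent.AbSchLib.Flat
import Groth.Agent.WeilResLib.GrpGen
import Groth.Prelude.Def_ActBC

/-! Abelian schemes have no homomorphisms to groups which are affine over the base. -/

set_option autoImplicit false
set_option linter.style.haveILetI false
set_option backward.isDefEq.respectTransparency false
set_option maxHeartbeats 400000

noncomputable section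

universe u

open CategoryTheory CategoryTheory.Limits MonoidalCategory CartesianMonoidalCategory AlgebraicGeometry
open scoped MonObj

attribute [-instance] CategoryTheory.Hom.commGroup

namespace SemiAbHomLib

/-- A morphism to a scheme affine over the base factors through a section. -/
theorem eq_comp_section {S T X Y : Scheme.{u}} (p : T ⟶ S) (q : Y ⟶ S) [IsAffineHom q] (g : X ⟶ T)
    (hb : ∀ U : T.Opens, Function.Bijective (g.app U).hom) (σ : T ⟶ X) (hσ : σ ≫ g = 𝟙 T)
    (f : X ⟶ Y) (hf : f ≫ q = g ≫ p) : f = g ≫ σ ≫ f := by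
  have hh : (g ≫ σ ≫ f) ≫ q = g ≫ p := by
    rw [Category.assoc, Category.assoc, hf, reassoc_of% hσ]
  have hcov : (⨆ U : S.affineOpens, g ⁻¹ᵁ (p ⁻¹ᵁ U.1)) = ⊤ := by
    refine top_le_iff.1 fun x _ => ?_
    obtain ⟨U, hU, hx, -⟩ := exists_isAffineOpen_mem_and_subset (U := ⊤) (x := p.base (g.base x)) trivial
    exact TopologicalSpace.Opens.mem_iSup.2 ⟨⟨U, hU⟩, hx⟩
  refine (X.openCoverOfIsOpenCover _ hcov).hom_ext _ _ fun U => ?_
  let W := p ⁻¹ᵁ U.1
  let V := q ⁻¹ᵁ U.1
  show (g ⁻¹ᵁ W).ι ≫ f = (g ⁻¹ᵁ W).ι ≫ g ≫ σ ≫ f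
  haveI : IsAffine V.toScheme := U.2.preimage q
  have hr : ∀ m : X ⟶ Y, m ≫ q = g ≫ p → Set.range ((g ⁻¹ᵁ W).ι ≫ m).base ⊆ Set.range V.ι.base := by
    intro m hm
    rintro _ ⟨z, rfl⟩
    rw [Scheme.Opens.range_ι]
    show q.base (m.base ((g ⁻¹ᵁ W).ι.base z)) ∈ U.1
    rw [← Scheme.Hom.comp_apply, hm]
    exact z.2
  have hσW : Set.range (W.ι ≫ σ).base ⊆ Set.range (g ⁻¹ᵁ W).ι.base := by
    rintro _ ⟨z, rfl⟩
    rw [Scheme.Opens.range_ι]
    show g.base (σ.base (W.ι.base z)) ∈ W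
    rw [← Scheme.Hom.comp_apply, hσ]
    exact z.2
  let s := IsOpenImmersion.lift (g ⁻¹ᵁ W).ι (W.ι ≫ σ) hσW
  have hs : s ≫ (g ∣_ W) = 𝟙 _ := by
    rw [← cancel_mono W.ι, Category.assoc, morphismRestrict_ι, IsOpenImmersion.lift_fac_assoc, Category.assoc, hσ,
      Category.comp_id, Category.id_comp]
  let F := IsOpenImmersion.lift V.ι _ (hr f hf)
  have hG : (g ⁻¹ᵁ W).ι ≫ g ≫ σ ≫ f = (g ∣_ W) ≫ s ≫ F ≫ V.ι := by
    simp [F, s, morphismRestrict_ι_assoc]
  have hF : (g ⁻¹ᵁ W).ι ≫ f = F ≫ V.ι := (IsOpenImmersion.lift_fac V.ι _ (hr f hf)).symm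
  rw [hG, hF]
  conv_rhs => rw [← Category.assoc, ← Category.assoc]
  congr 1
  refine ext_of_isAffine ?_
  have hbW : Function.Bijective (g ∣_ W).appTop.hom := H0Lib.bijective_restrict g hb W ⊤
  rw [Scheme.Hom.comp_appTop, Scheme.Hom.comp_appTop]
  refine CommRingCat.hom_ext (RingHom.ext fun a => ?_)
  obtain ⟨b, hb'⟩ := hbW.2 (F.appTop.hom a)
  show F.appTop.hom a = (g ∣_ W).appTop.hom (s.appTop.hom (F.appTop.hom a))
  rw [← hb']
  refine congrArg (g ∣_ W).appTop.hom ?_
  have h1 := congrArg (fun m : W.toScheme ⟶ W.toScheme => m.appTop.hom b) hs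
  rw [Scheme.Hom.comp_appTop, Scheme.Hom.id_appTop] at h1
  exact h1.symm

variable {S : Scheme.{u}}

theorem eq_one_of_mul {S' : Scheme.{u}} (π : S' ⟶ S) {T : Over S} [GrpObj T] [IsAffineHom T.hom]
    {AP : Over S'} [GrpObj AP] [Smooth AP.hom] [IsProper AP.hom] [GeometricallyConnected AP.hom]
    (Ψ : (Over.map π).obj AP ⟶ T)
    (hΨ : ∀ {Z : Over S'} (a b : Z ⟶ AP), (Over.map π).map (a * b) ≫ Ψ =
      ((Over.map π).map a ≫ Ψ) * ((Over.map π).map b ≫ Ψ)) : Ψ = 1 := by
  haveI : GeometricallyReduced AP.hom := AbSchLib.geometricallyReduced_of_smooth AP.hom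
  haveI : LocallyOfFinitePresentation AP.hom := inferInstance
  have h1 : (Over.map π).map (1 : AP ⟶ AP) ≫ Ψ = 1 := by
    have h := hΨ (1 : AP ⟶ AP) 1
    rw [_root_.mul_one] at h
    exact mul_eq_left.1 h.symm
  refine (Over.OverMorphism.ext ?_).trans h1
  show Ψ.left = (1 : AP ⟶ AP).left ≫ Ψ.left
  have e1 : (1 : AP ⟶ AP).left = AP.hom ≫ η[AP].left := by
    rw [Hom.one_def]
    rfl
  rw [e1, Category.assoc]
  exact eq_comp_section π T.hom AP.hom (H0Lib.bijective_app_of_geometrically AP.hom) η[AP].left (Over.w η[AP])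
    Ψ.left (Over.w Ψ)

/-- The sheaf of homomorphisms from an abelian scheme to a group affine over the base vanishes. -/
theorem isZero_homSh (A T : Over S) [GrpObj T] [IsCommMonObj T] [IsAffineHom T.hom]
    [GrpObj A] [IsCommMonObj A] [Smooth A.hom] [IsProper A.hom]
    (hA : ∀ s : S, ConnectedSpace ↥(A.hom.fiber s)) :
    IsZero (HomSh.homSh (QuotSh.J Scheme.fppfPrecoverage S) (CGrpSh.pts Scheme.fppfPrecoverage A)
      (CGrpSh.pts Scheme.fppfPrecoverage T)) := by
  refine (IsZero.iff_id_eq_zero _).2 (Sheaf.hom_ext (NatTrans.ext (funext fun X => AddCommGrpCat.ext fun φ => ?_)))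
  change φ = (0 : (CGrpSh.pts Scheme.fppfPrecoverage A).over X.unop ⟶ (CGrpSh.pts Scheme.fppfPrecoverage T).over X.unop)
  obtain ⟨X⟩ := X
  revert φ
  show ∀ φ : (CGrpSh.pts Scheme.fppfPrecoverage A).over X ⟶ (CGrpSh.pts Scheme.fppfPrecoverage T).over X, φ = 0
  intro φ
  let ev : ∀ {W : Over S} (_ : W ⟶ X), (W ⟶ A) → (W ⟶ T) := fun {W} w b =>
    (φ.hom.app (Opposite.op (Over.mk w)) (ULift.up (Additive.ofMul b))).down.toMul
  have ev_nat : ∀ {W W' : Over S} (w : W ⟶ X) (m : W' ⟶ W) (b : W ⟶ A),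
      ev (m ≫ w) (m ≫ b) = m ≫ ev w b := by
    intro W W' w m b
    let v : Over.mk (m ≫ w) ⟶ Over.mk w := Over.homMk m rfl
    have h := ConcreteCategory.congr_hom (φ.hom.naturality v.op)
      (ULift.up (Additive.ofMul b) : (CGrpSh.pts Scheme.fppfPrecoverage A).obj.obj (Opposite.op W))
    exact congrArg (fun t => Additive.toMul (ULift.down t)) h
  have ev_mul : ∀ {W : Over S} (w : W ⟶ X) (b b' : W ⟶ A), ev w (b * b') = ev w b * ev w b' := by
    intro W w b b'
    exact congrArg (fun t => Additive.toMul (ULift.down t))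
      (map_add (φ.hom.app (Opposite.op (Over.mk w))).hom (ULift.up (Additive.ofMul b)) (ULift.up (Additive.ofMul b')))
  let π := X.hom
  let AP := Red.bc π A
  haveI : Smooth AP.hom := inferInstanceAs (Smooth (pullback.snd A.hom π))
  haveI : IsProper AP.hom := inferInstanceAs (IsProper (pullback.snd A.hom π))
  haveI : GeometricallyConnected A.hom := Groth.Agent.WeilRes.geometricallyConnected_of_grp A hA
  haveI : GeometricallyConnected AP.hom := inferInstanceAs (GeometricallyConnected (pullback.snd A.hom π))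
  let w : (Over.map π).obj AP ⟶ X := Over.homMk AP.hom
  let e : (Over.map π).obj AP ⟶ A := TorusHomZeroLib.proj π A
  have hΨ : ev w e = 1 := by
    refine eq_one_of_mul π (ev w e) fun {Z} a b => ?_
    have hw : ∀ c : Z ⟶ AP, (Over.map π).map c ≫ w = Over.homMk Z.hom := fun c => Over.OverMorphism.ext (Over.w c)
    rw [← ev_nat, ← ev_nat, ← ev_nat, hw, hw, hw, ← ev_mul, TorusHomZeroLib.counit_mul]
  have key : ∀ {W : Over S} (x : W ⟶ X) (b : W ⟶ A), ev x b = 1 := by
    intro W x b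
    let m : W ⟶ (Over.map π).obj AP := Over.homMk (pullback.lift b.left x.left ((Over.w b).trans (Over.w x).symm)) (by
      show pullback.lift b.left x.left _ ≫ pullback.snd A.hom π ≫ π = W.hom
      rw [pullback.lift_snd_assoc]
      exact Over.w x)
    have h1 : m ≫ w = x := Over.OverMorphism.ext (pullback.lift_snd _ _ _)
    have h2 : m ≫ e = b := Over.OverMorphism.ext (by simp [m, e])
    rw [← h1, ← h2, ev_nat, hΨ, MonObj.comp_one]
  refine Sheaf.hom_ext (NatTrans.ext (funext fun W => AddCommGrpCat.ext fun b => ?_))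
  apply ULift.ext
  exact congrArg Additive.ofMul (key W.unop.hom b.down.toMul)

end SemiAbHomLib

end
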