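import Groth.Agent.GaBidualLib.DualExact
import Mathlib.CategoryTheory.Abelian.Basic

/-! The internal Hom of abelian sheaves applied to short exact sequences, when an outer term vanishes. -/

set_option autoImplicit false
set_option linter.style.haveILetI false
set_option maxHeartbeats 400000
universe u

open CategoryTheory CategoryTheory.Limits Opposite

noncomputable section

namespace SemiAbHomLib

variable {C : Type (u + 1)} [Category.{u} C] (J : GrothendieckTopology C)

theorem eq_zero_of_isZero {F G : Sheaf J AddCommGrpCat.{u + 1}} (h : IsZero (HomSh.homSh J F G)) (U : C)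
    (φ : F.over U ⟶ G.over U) : φ = 0 := by
  have h1 : (𝟙 (HomSh.homSh J F G) : _ ⟶ _) = 0 := h.eq_of_src _ _
  exact congrArg (fun t : HomSh.homSh J F G ⟶ HomSh.homSh J F G => t.hom.app (op U) φ) h1

theorem isIso_of_bijective {A B : Sheaf J AddCommGrpCat.{u + 1}} (f : A ⟶ B)
    (h : ∀ U : C, Function.Bijective (f.hom.app (op U))) : IsIso f := by
  haveI : ∀ U : Cᵒᵖ, IsIso (f.hom.app U) := fun U => (ConcreteCategory.isIso_iff_bijective _).2 (h U.unop)
  haveI : IsIso f.hom := NatIso.isIso_of_isIso_app _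
  haveI : IsIso ((sheafToPresheaf J AddCommGrpCat.{u + 1}).map f) := ‹IsIso f.hom›
  exact isIso_of_reflects_iso f (sheafToPresheaf J AddCommGrpCat.{u + 1})

theorem mono_of_injective {A B : Sheaf J AddCommGrpCat.{u + 1}} (f : A ⟶ B)
    (h : ∀ U : C, Function.Injective (f.hom.app (op U))) : Mono f := by
  refine (sheafToPresheaf _ _).mono_of_mono_map ?_
  exact (NatTrans.mono_iff_mono_app _).2 fun U => (AddCommGrpCat.mono_iff_injective _).2 (h U.unop)

theorem map_left {F F' G : Sheaf J AddCommGrpCat.{u + 1}} (f : F' ⟶ F) (U : C) (φ : F.over U ⟶ G.over U) :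
    (HomSh.homShMap J f (𝟙 G)).hom.app (op U) φ = (J.overPullback AddCommGrpCat.{u + 1} U).map f ≫ φ :=
  congrArg ((J.overPullback AddCommGrpCat.{u + 1} U).map f ≫ ·) (Category.comp_id φ)

theorem map_right {F G G' : Sheaf J AddCommGrpCat.{u + 1}} (g : G ⟶ G') (U : C) (φ : F.over U ⟶ G.over U) :
    (HomSh.homShMap J (𝟙 F) g).hom.app (op U) φ = φ ≫ (J.overPullback AddCommGrpCat.{u + 1} U).map g :=
  ((congrArg (· ≫ φ ≫ (J.overPullback AddCommGrpCat.{u + 1} U).map g)
    ((J.overPullback AddCommGrpCat.{u + 1} U).map_id F)).trans (Category.id_comp _))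

variable [HasSheafify J AddCommGrpCat.{u + 1}] [∀ U : C, HasSheafify (J.over U) AddCommGrpCat.{u + 1}]

theorem isIso_left {S : ShortComplex (Sheaf J AddCommGrpCat.{u + 1})} (hS : S.ShortExact)
    {M : Sheaf J AddCommGrpCat.{u + 1}} (h : IsZero (HomSh.homSh J S.X₁ M)) :
    IsIso (HomSh.homShMap J S.g (𝟙 M)) := by
  refine isIso_of_bijective J _ fun U => ?_
  have hU := GaBidualLib.shortExact_over J hS U
  haveI := hU.epi_g
  constructor
  · intro φ ψ e
    rw [map_left, map_left] at e
    exact (cancel_epi (S.map (J.overPullback AddCommGrpCat.{u + 1} U)).g).1 e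
  · intro φ
    have h0 : (S.map (J.overPullback AddCommGrpCat.{u + 1} U)).f ≫ φ = 0 := eq_zero_of_isZero J h U _
    exact ⟨hU.gIsCokernel.desc (CokernelCofork.ofπ φ h0),
      (map_left J S.g U _).trans (hU.gIsCokernel.fac (CokernelCofork.ofπ φ h0) WalkingParallelPair.one)⟩

theorem mono_left {S : ShortComplex (Sheaf J AddCommGrpCat.{u + 1})} (hS : S.ShortExact)
    {M : Sheaf J AddCommGrpCat.{u + 1}} (h : IsZero (HomSh.homSh J S.X₃ M)) :
    Mono (HomSh.homShMap J S.f (𝟙 M)) := by
  refine mono_of_injective J _ fun U => (injective_iff_map_eq_zero _).2 fun φ e => ?_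
  have hU := GaBidualLib.shortExact_over J hS U
  have h0 : (S.map (J.overPullback AddCommGrpCat.{u + 1} U)).f ≫ φ = 0 := (map_left J S.f U φ).symm.trans e
  have h1 : hU.gIsCokernel.desc (CokernelCofork.ofπ φ h0) = 0 := eq_zero_of_isZero J h U _
  have h2 := hU.gIsCokernel.fac (CokernelCofork.ofπ φ h0) WalkingParallelPair.one
  rw [h1, comp_zero] at h2
  exact h2.symm

theorem isIso_right {S : ShortComplex (Sheaf J AddCommGrpCat.{u + 1})} (hS : S.ShortExact)
    {N : Sheaf J AddCommGrpCat.{u + 1}} (h : IsZero (HomSh.homSh J N S.X₃)) :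
    IsIso (HomSh.homShMap J (𝟙 N) S.f) := by
  refine isIso_of_bijective J _ fun U => ?_
  have hU := GaBidualLib.shortExact_over J hS U
  haveI := hU.mono_f
  constructor
  · intro φ ψ e
    rw [map_right, map_right] at e
    exact (cancel_mono (S.map (J.overPullback AddCommGrpCat.{u + 1} U)).f).1 e
  · intro φ
    have h0 : φ ≫ (S.map (J.overPullback AddCommGrpCat.{u + 1} U)).g = 0 := eq_zero_of_isZero J h U _
    exact ⟨hU.fIsKernel.lift (KernelFork.ofι φ h0),
      (map_right J S.f U _).trans (hU.fIsKernel.fac (KernelFork.ofι φ h0) WalkingParallelPair.zero)⟩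

theorem mono_right {S : ShortComplex (Sheaf J AddCommGrpCat.{u + 1})} (hS : S.ShortExact)
    {N : Sheaf J AddCommGrpCat.{u + 1}} (h : IsZero (HomSh.homSh J N S.X₁)) :
    Mono (HomSh.homShMap J (𝟙 N) S.g) := by
  refine mono_of_injective J _ fun U => (injective_iff_map_eq_zero _).2 fun φ e => ?_
  have hU := GaBidualLib.shortExact_over J hS U
  have h0 : φ ≫ (S.map (J.overPullback AddCommGrpCat.{u + 1} U)).g = 0 := (map_right J S.g U φ).symm.trans e
  have h1 : hU.fIsKernel.lift (KernelFork.ofι φ h0) = 0 := eq_zero_of_isZero J h U _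
  have h2 := hU.fIsKernel.fac (KernelFork.ofι φ h0) WalkingParallelPair.zero
  rw [h1, zero_comp] at h2
  exact h2.symm

end SemiAbHomLib

end
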